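import Mathlib

set_option autoImplicit false
universe u

namespace Groth.Agent.Lib.Helper5.Alternants
open MvPolynomial

variable {k : Type u} [Field k] {n : ℕ}

/-- the action of a permutation on polynomials in `x_i, y_i` -/
noncomputable def act (k : Type u) [Field k] {n : ℕ} (σ : Equiv.Perm (Fin n)) :
    MvPolynomial (Fin n × Fin 2) k →ₐ[k] MvPolynomial (Fin n × Fin 2) k :=
  MvPolynomial.rename (fun v : Fin n × Fin 2 => (σ v.1, v.2))

/-- the matrix `(x_i^{p_j} y_i^{q_j})` -/
noncomputable def Mat (k : Type u) [Field k] {n : ℕ} (p : Fin n → ℕ × ℕ) :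
    Matrix (Fin n) (Fin n) (MvPolynomial (Fin n × Fin 2) k) :=
  Matrix.of fun i j : Fin n =>
    (MvPolynomial.X (i, 0) : MvPolynomial (Fin n × Fin 2) k) ^ (p j).1 * MvPolynomial.X (i, 1) ^ (p j).2

theorem act_det (σ : Equiv.Perm (Fin n)) (p : Fin n → ℕ × ℕ) :
    act k σ (Mat k p).det = ((Equiv.Perm.sign σ : ℤˣ) : ℤ) • (Mat k p).det := by
  rw [AlgHom.map_det]
  have h : (act k σ).mapMatrix (Mat k p) = (Mat k p).submatrix σ id := by
    ext i j
    simp [Mat, act]
  rw [h, Matrix.det_permute, zsmul_eq_mul]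

/-- the monomial `∏ x_i^{p_i} y_i^{q_i}` -/
noncomputable def mono (k : Type u) [Field k] {n : ℕ} (p : Fin n → ℕ × ℕ) :
    MvPolynomial (Fin n × Fin 2) k :=
  ∏ i : Fin n, (MvPolynomial.X (i, 0) : MvPolynomial (Fin n × Fin 2) k) ^ (p i).1 *
    MvPolynomial.X (i, 1) ^ (p i).2

theorem det_eq_sum (p : Fin n → ℕ × ℕ) :
    (Mat k p).det = ∑ σ : Equiv.Perm (Fin n), ((Equiv.Perm.sign σ : ℤˣ) : ℤ) • act k σ (mono k p) := by
  rw [Matrix.det_apply']
  refine Finset.sum_congr rfl fun σ _ => ?_
  rw [zsmul_eq_mul]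
  push_cast
  congr 1
  simp [mono, act, Mat]

theorem monomial_eq_mono (m : (Fin n × Fin 2) →₀ ℕ) :
    MvPolynomial.monomial m (1 : k) = mono k (fun i => (m (i, 0), m (i, 1))) := by
  rw [MvPolynomial.monomial_eq, map_one, one_mul, Finsupp.prod_fintype _ _ (fun _ => pow_zero _),
    Fintype.prod_prod_type]
  simp [mono, Fin.prod_univ_two]


/-- antisymmetrisation -/
noncomputable def asym (k : Type u) [Field k] (n : ℕ) :
    MvPolynomial (Fin n × Fin 2) k →ₗ[k] MvPolynomial (Fin n × Fin 2) k :=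
  ∑ σ : Equiv.Perm (Fin n), ((Equiv.Perm.sign σ : ℤˣ) : ℤ) • (act k σ).toLinearMap

theorem asym_apply (f : MvPolynomial (Fin n × Fin 2) k) :
    asym k n f = ∑ σ : Equiv.Perm (Fin n), ((Equiv.Perm.sign σ : ℤˣ) : ℤ) • act k σ f := by
  simp [asym, LinearMap.sum_apply]

theorem asym_mem_span (f : MvPolynomial (Fin n × Fin 2) k) :
    asym k n f ∈ Submodule.span k (Set.range fun p : Fin n → ℕ × ℕ => (Mat k p).det) := by
  induction f using MvPolynomial.induction_on' with
  | monomial m a =>
    have h : MvPolynomial.monomial m a = a • MvPolynomial.monomial m (1 : k) := by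
      rw [MvPolynomial.smul_monomial, smul_eq_mul, mul_one]
    rw [h, map_smul]
    apply Submodule.smul_mem
    rw [monomial_eq_mono, asym_apply, ← det_eq_sum]
    exact Submodule.subset_span ⟨_, rfl⟩
  | add f g hf hg =>
    rw [map_add]; exact Submodule.add_mem _ hf hg

theorem part1 [CharZero k] (f : MvPolynomial (Fin n × Fin 2) k) :
    (∀ σ : Equiv.Perm (Fin n),
        MvPolynomial.rename (fun v : Fin n × Fin 2 => (σ v.1, v.2)) f =
          ((Equiv.Perm.sign σ : ℤˣ) : ℤ) • f) ↔
      f ∈ Submodule.span k (Set.range fun p : Fin n → ℕ × ℕ => (Mat k p).det) := by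
  constructor
  · intro hf
    have h1 : asym k n f = (Nat.factorial n : k) • f := by
      rw [asym_apply]
      have : ∀ σ : Equiv.Perm (Fin n), ((Equiv.Perm.sign σ : ℤˣ) : ℤ) • act k σ f = f := by
        intro σ
        have h2 : act k σ f = ((Equiv.Perm.sign σ : ℤˣ) : ℤ) • f := hf σ
        rw [h2, smul_smul, ← Units.val_mul, Int.units_mul_self, Units.val_one, one_smul]
      rw [Finset.sum_congr rfl fun σ _ => this σ, Finset.sum_const, Finset.card_univ,
        Fintype.card_perm, Fintype.card_fin, Nat.cast_smul_eq_nsmul]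
    have h3 : f = ((Nat.factorial n : k))⁻¹ • asym k n f := by
      rw [h1, smul_smul, inv_mul_cancel₀ (Nat.cast_ne_zero.mpr (Nat.factorial_ne_zero n)),
        one_smul]
    rw [h3]
    exact Submodule.smul_mem _ _ (asym_mem_span f)
  · intro hf σ
    show act k σ f = _
    induction hf using Submodule.span_induction with
    | mem x hx =>
      obtain ⟨p, rfl⟩ := hx
      exact act_det σ p
    | zero => simp
    | add x y _ _ hx hy => rw [map_add, hx, hy, smul_add]
    | smul c x _ hx => rw [map_smul, hx, smul_comm]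


/-- the exponent vector of `∏ x_i^{p_i} y_i^{q_i}` -/
noncomputable def mu (p : Fin n → ℕ × ℕ) : (Fin n × Fin 2) →₀ ℕ :=
  Finsupp.equivFunOnFinite.symm (fun v => if v.2 = 0 then (p v.1).1 else (p v.1).2)

theorem mu_apply_zero (p : Fin n → ℕ × ℕ) (i : Fin n) : mu p (i, 0) = (p i).1 := by
  simp [mu]

theorem mu_apply_one (p : Fin n → ℕ × ℕ) (i : Fin n) : mu p (i, 1) = (p i).2 := by
  simp [mu]

theorem mu_injective : Function.Injective (mu (n := n)) := by
  intro p p' h
  funext i
  apply Prod.ext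
  · rw [← mu_apply_zero, ← mu_apply_zero, h]
  · rw [← mu_apply_one, ← mu_apply_one, h]

theorem mono_eq_monomial (p : Fin n → ℕ × ℕ) : mono k p = MvPolynomial.monomial (mu p) (1 : k) := by
  rw [monomial_eq_mono]
  have : (fun i : Fin n => (mu p (i, 0), mu p (i, 1))) = p := by
    funext i; rw [mu_apply_zero, mu_apply_one]
  rw [this]

theorem act_mono (σ : Equiv.Perm (Fin n)) (p : Fin n → ℕ × ℕ) :
    act k σ (mono k p) = mono k (p ∘ σ.symm) := by
  unfold mono
  rw [map_prod]
  rw [← Equiv.prod_comp σ (fun i => (MvPolynomial.X (i, 0) : MvPolynomial (Fin n × Fin 2) k) ^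
    ((p ∘ σ.symm) i).1 * MvPolynomial.X (i, 1) ^ ((p ∘ σ.symm) i).2)]
  refine Finset.prod_congr rfl fun i _ => ?_
  simp [act]

theorem coeff_det (p p' : Fin n → ℕ × ℕ) :
    MvPolynomial.coeff (mu p') (Mat k p).det =
      ∑ σ : Equiv.Perm (Fin n), ((Equiv.Perm.sign σ : ℤˣ) : ℤ) •
        (if p ∘ σ.symm = p' then (1 : k) else 0) := by
  classical
  rw [det_eq_sum, MvPolynomial.coeff_sum]
  refine Finset.sum_congr rfl fun σ _ => ?_
  rw [act_mono, mono_eq_monomial, MvPolynomial.coeff_smul, MvPolynomial.coeff_monomial]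
  congr 1
  by_cases h : p ∘ σ.symm = p'
  · rw [if_pos h, if_pos (by rw [h])]
  · rw [if_neg h, if_neg (fun h' => h (mu_injective h'))]

theorem eq_of_comp_perm {P P' : Fin n → ℕ ×ₗ ℕ} (hP : StrictMono P) (hP' : StrictMono P')
    (σ : Equiv.Perm (Fin n)) (h : (fun i => ofLex (P i)) ∘ σ.symm = fun i => ofLex (P' i)) :
    P = P' ∧ σ = 1 := by
  have h1 : ∀ i, P (σ.symm i) = P' i := by
    intro i
    have := congrFun h i
    exact ofLex_inj.mp this
  have hPP' : P = P' := by
    have hcard : (Finset.univ.image P').card = n := by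
      rw [Finset.card_image_of_injective _ hP'.injective, Finset.card_univ, Fintype.card_fin]
    have e1 := Finset.orderEmbOfFin_unique hcard (f := P') (fun x => Finset.mem_image_of_mem _ (Finset.mem_univ _)) hP'
    have e2 := Finset.orderEmbOfFin_unique hcard (f := P) (fun x => by
      rw [Finset.mem_image]
      exact ⟨σ x, Finset.mem_univ _, by rw [← h1, Equiv.symm_apply_apply]⟩) hP
    rw [e1, e2]
  refine ⟨hPP', ?_⟩
  subst hPP'
  ext i
  have := hP.injective (h1 (σ i))
  rw [Equiv.symm_apply_apply] at this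
  rw [← this]
  rfl

theorem coeff_det_strictMono {P P' : Fin n → ℕ ×ₗ ℕ} (hP : StrictMono P) (hP' : StrictMono P') :
    MvPolynomial.coeff (mu fun i => ofLex (P' i)) (Mat k fun i => ofLex (P i)).det =
      if P = P' then (1 : k) else 0 := by
  classical
  rw [coeff_det]
  by_cases hPP : P = P'
  · subst hPP
    rw [if_pos rfl, Finset.sum_eq_single (1 : Equiv.Perm (Fin n))]
    · rw [if_pos (by rfl)]
      simp
    · intro σ _ hσ
      rw [if_neg, smul_zero]
      intro h
      exact hσ (eq_of_comp_perm hP hP σ h).2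
    · simp
  · rw [if_neg hPP]
    apply Finset.sum_eq_zero
    intro σ _
    rw [if_neg, smul_zero]
    intro h
    exact hPP (eq_of_comp_perm hP hP' σ h).1

theorem part2 : LinearIndependent k (fun p : {p : Fin n → ℕ ×ₗ ℕ // StrictMono p} =>
    (Mat k fun j => ofLex (p.1 j)).det) := by
  classical
  rw [linearIndependent_iff']
  intro s g hg P' hP'
  have := congrArg (MvPolynomial.coeff (mu fun i => ofLex (P'.1 i))) hg
  rw [MvPolynomial.coeff_sum, MvPolynomial.coeff_zero] at this
  simp only [MvPolynomial.coeff_smul, coeff_det_strictMono (Subtype.prop _) P'.2, smul_eq_mul,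
    mul_ite, mul_one, mul_zero] at this
  rw [Finset.sum_eq_single P'] at this
  · simpa using this
  · intro Q _ hQ
    rw [if_neg]
    exact fun h => hQ (Subtype.ext h)
  · intro h; exact absurd hP' h

end Groth.Agent.Lib.Helper5.Alternants

namespace Groth.Agent.Lib.Helper5.Alternants

theorem main19449 (k : Type u) [Field k] [CharZero k] (n : ℕ) :
    (∀ f : MvPolynomial (Fin n × Fin 2) k,
      (∀ σ : Equiv.Perm (Fin n),
          MvPolynomial.rename (fun v : Fin n × Fin 2 => (σ v.1, v.2)) f = ((Equiv.Perm.sign σ : ℤˣ) : ℤ) • f) ↔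
        f ∈ Submodule.span k (Set.range fun p : Fin n → ℕ × ℕ =>
          (Matrix.of fun i j : Fin n =>
            (MvPolynomial.X (i, 0) : MvPolynomial (Fin n × Fin 2) k) ^ (p j).1 * MvPolynomial.X (i, 1) ^ (p j).2).det)) ∧
    LinearIndependent k (fun p : {p : Fin n → ℕ ×ₗ ℕ // StrictMono p} =>
      (Matrix.of fun i j : Fin n =>
        (MvPolynomial.X (i, 0) : MvPolynomial (Fin n × Fin 2) k) ^ (ofLex (p.1 j)).1 *
          MvPolynomial.X (i, 1) ^ (ofLex (p.1 j)).2).det) :=
  ⟨fun f => part1 f, part2⟩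

end Groth.Agent.Lib.Helper5.Alternants
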